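import Cfsg.Agent.Lib.ToddCox.Fi23X.Data0
set_option autoImplicit false
set_option maxRecDepth 100000
namespace Cfsg.Agent.Lib.ToddCox.Fi23X
def eT_0_2 (j : ℕ) : ℕ := bif Nat.blt j 1 then E_0 else E_1
def eT_3_5 (j : ℕ) : ℕ := bif Nat.blt j 4 then E_3 else E_4
def eT_2_5 (j : ℕ) : ℕ := bif Nat.blt j 3 then E_2 else (eT_3_5 j)
def eT_0_5 (j : ℕ) : ℕ := bif Nat.blt j 2 then (eT_0_2 j) else (eT_2_5 j)
def eT_5_7 (j : ℕ) : ℕ := bif Nat.blt j 6 then E_5 else E_6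
def eT_8_10 (j : ℕ) : ℕ := bif Nat.blt j 9 then E_8 else E_9
def eT_7_10 (j : ℕ) : ℕ := bif Nat.blt j 8 then E_7 else (eT_8_10 j)
def eT_5_10 (j : ℕ) : ℕ := bif Nat.blt j 7 then (eT_5_7 j) else (eT_7_10 j)
def eT_0_10 (j : ℕ) : ℕ := bif Nat.blt j 5 then (eT_0_5 j) else (eT_5_10 j)
def eT_10_12 (j : ℕ) : ℕ := bif Nat.blt j 11 then E_10 else E_11
def eT_13_15 (j : ℕ) : ℕ := bif Nat.blt j 14 then E_13 else E_14
def eT_12_15 (j : ℕ) : ℕ := bif Nat.blt j 13 then E_12 else (eT_13_15 j)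
def eT_10_15 (j : ℕ) : ℕ := bif Nat.blt j 12 then (eT_10_12 j) else (eT_12_15 j)
def eT_16_18 (j : ℕ) : ℕ := bif Nat.blt j 17 then E_16 else E_17
def eT_15_18 (j : ℕ) : ℕ := bif Nat.blt j 16 then E_15 else (eT_16_18 j)
def eT_19_21 (j : ℕ) : ℕ := bif Nat.blt j 20 then E_19 else E_20
def eT_18_21 (j : ℕ) : ℕ := bif Nat.blt j 19 then E_18 else (eT_19_21 j)
def eT_15_21 (j : ℕ) : ℕ := bif Nat.blt j 18 then (eT_15_18 j) else (eT_18_21 j)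
def eT_10_21 (j : ℕ) : ℕ := bif Nat.blt j 15 then (eT_10_15 j) else (eT_15_21 j)
def eT_0_21 (j : ℕ) : ℕ := bif Nat.blt j 10 then (eT_0_10 j) else (eT_10_21 j)
def eT (j : ℕ) : ℕ := (eT_0_21 j)
noncomputable def chunkF (h : ℕ) : ℕ := Nat.rec (motive := fun _ => ℕ) (eT 0) (fun n _ => eT (Nat.succ n)) h
noncomputable def Eo (r : ℕ) : ℕ := Nat.land (Nat.shiftRight (chunkF (Nat.shiftRight r 8)) (Nat.mul (Nat.land r 255) 54)) 18014398509481983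
def invT : ℕ := 0xffef7cefae78df6d74cf2c70beeb6caeaa689e69648e28607de75c6da6585d65544d24503ce34c2ca2481c61440c2040
def inv (y : ℕ) : ℕ := invOf invT y
def Wt_1_3 (j : ℕ) : List ℕ := bif Nat.blt j 2 then [nat_lit 0, nat_lit 3, nat_lit 0, nat_lit 3] else [nat_lit 0, nat_lit 4, nat_lit 0, nat_lit 4]
def Wt_0_3 (j : ℕ) : List ℕ := bif Nat.blt j 1 then [nat_lit 0, nat_lit 2, nat_lit 0, nat_lit 2] else (Wt_1_3 j)
def Wt_4_6 (j : ℕ) : List ℕ := bif Nat.blt j 5 then [nat_lit 0, nat_lit 6, nat_lit 0, nat_lit 6] else [nat_lit 0, nat_lit 7, nat_lit 0, nat_lit 7]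
def Wt_3_6 (j : ℕ) : List ℕ := bif Nat.blt j 4 then [nat_lit 0, nat_lit 5, nat_lit 0, nat_lit 5] else (Wt_4_6 j)
def Wt_0_6 (j : ℕ) : List ℕ := bif Nat.blt j 3 then (Wt_0_3 j) else (Wt_3_6 j)
def Wt_7_9 (j : ℕ) : List ℕ := bif Nat.blt j 8 then [nat_lit 0, nat_lit 9, nat_lit 0, nat_lit 9] else [nat_lit 1, nat_lit 3, nat_lit 1, nat_lit 3]
def Wt_6_9 (j : ℕ) : List ℕ := bif Nat.blt j 7 then [nat_lit 0, nat_lit 8, nat_lit 0, nat_lit 8] else (Wt_7_9 j)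
def Wt_9_11 (j : ℕ) : List ℕ := bif Nat.blt j 10 then [nat_lit 1, nat_lit 4, nat_lit 1, nat_lit 4] else [nat_lit 1, nat_lit 5, nat_lit 1, nat_lit 5]
def Wt_11_13 (j : ℕ) : List ℕ := bif Nat.blt j 12 then [nat_lit 1, nat_lit 6, nat_lit 1, nat_lit 6] else [nat_lit 1, nat_lit 7, nat_lit 1, nat_lit 7]
def Wt_9_13 (j : ℕ) : List ℕ := bif Nat.blt j 11 then (Wt_9_11 j) else (Wt_11_13 j)
def Wt_6_13 (j : ℕ) : List ℕ := bif Nat.blt j 9 then (Wt_6_9 j) else (Wt_9_13 j)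
def Wt_0_13 (j : ℕ) : List ℕ := bif Nat.blt j 6 then (Wt_0_6 j) else (Wt_6_13 j)
def Wt_14_16 (j : ℕ) : List ℕ := bif Nat.blt j 15 then [nat_lit 2, nat_lit 4, nat_lit 2, nat_lit 4] else [nat_lit 2, nat_lit 5, nat_lit 2, nat_lit 5]
def Wt_13_16 (j : ℕ) : List ℕ := bif Nat.blt j 14 then [nat_lit 1, nat_lit 9, nat_lit 1, nat_lit 9] else (Wt_14_16 j)
def Wt_16_18 (j : ℕ) : List ℕ := bif Nat.blt j 17 then [nat_lit 2, nat_lit 6, nat_lit 2, nat_lit 6] else [nat_lit 2, nat_lit 7, nat_lit 2, nat_lit 7]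
def Wt_18_20 (j : ℕ) : List ℕ := bif Nat.blt j 19 then [nat_lit 2, nat_lit 8, nat_lit 2, nat_lit 8] else [nat_lit 2, nat_lit 9, nat_lit 2, nat_lit 9]
def Wt_16_20 (j : ℕ) : List ℕ := bif Nat.blt j 18 then (Wt_16_18 j) else (Wt_18_20 j)
def Wt_13_20 (j : ℕ) : List ℕ := bif Nat.blt j 16 then (Wt_13_16 j) else (Wt_16_20 j)
def Wt_21_23 (j : ℕ) : List ℕ := bif Nat.blt j 22 then [nat_lit 3, nat_lit 6, nat_lit 3, nat_lit 6] else [nat_lit 3, nat_lit 7, nat_lit 3, nat_lit 7]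
def Wt_20_23 (j : ℕ) : List ℕ := bif Nat.blt j 21 then [nat_lit 3, nat_lit 5, nat_lit 3, nat_lit 5] else (Wt_21_23 j)
def Wt_23_25 (j : ℕ) : List ℕ := bif Nat.blt j 24 then [nat_lit 4, nat_lit 6, nat_lit 4, nat_lit 6] else [nat_lit 4, nat_lit 9, nat_lit 4, nat_lit 9]
def Wt_25_27 (j : ℕ) : List ℕ := bif Nat.blt j 26 then [nat_lit 5, nat_lit 7, nat_lit 5, nat_lit 7] else [nat_lit 5, nat_lit 9, nat_lit 5, nat_lit 9]
def Wt_23_27 (j : ℕ) : List ℕ := bif Nat.blt j 25 then (Wt_23_25 j) else (Wt_25_27 j)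
def Wt_20_27 (j : ℕ) : List ℕ := bif Nat.blt j 23 then (Wt_20_23 j) else (Wt_23_27 j)
def Wt_13_27 (j : ℕ) : List ℕ := bif Nat.blt j 20 then (Wt_13_20 j) else (Wt_20_27 j)
def Wt_0_27 (j : ℕ) : List ℕ := bif Nat.blt j 13 then (Wt_0_13 j) else (Wt_13_27 j)
def Wt_28_30 (j : ℕ) : List ℕ := bif Nat.blt j 29 then [nat_lit 7, nat_lit 8, nat_lit 7, nat_lit 8] else [nat_lit 7, nat_lit 9, nat_lit 7, nat_lit 9]
def Wt_27_30 (j : ℕ) : List ℕ := bif Nat.blt j 28 then [nat_lit 6, nat_lit 9, nat_lit 6, nat_lit 9] else (Wt_28_30 j)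
def Wt_30_32 (j : ℕ) : List ℕ := bif Nat.blt j 31 then [nat_lit 1, nat_lit 0, nat_lit 1, nat_lit 0, nat_lit 1, nat_lit 0] else [nat_lit 1, nat_lit 8, nat_lit 1, nat_lit 8]
def Wt_32_34 (j : ℕ) : List ℕ := bif Nat.blt j 33 then [nat_lit 3, nat_lit 9, nat_lit 3, nat_lit 9] else [nat_lit 4, nat_lit 7, nat_lit 4, nat_lit 7]
def Wt_30_34 (j : ℕ) : List ℕ := bif Nat.blt j 32 then (Wt_30_32 j) else (Wt_32_34 j)
def Wt_27_34 (j : ℕ) : List ℕ := bif Nat.blt j 30 then (Wt_27_30 j) else (Wt_30_34 j)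
def Wt_35_37 (j : ℕ) : List ℕ := bif Nat.blt j 36 then [nat_lit 5, nat_lit 8, nat_lit 5, nat_lit 8] else [nat_lit 6, nat_lit 8, nat_lit 6, nat_lit 8]
def Wt_34_37 (j : ℕ) : List ℕ := bif Nat.blt j 35 then [nat_lit 4, nat_lit 8, nat_lit 4, nat_lit 8] else (Wt_35_37 j)
def Wt_37_39 (j : ℕ) : List ℕ := bif Nat.blt j 38 then [nat_lit 2, nat_lit 1, nat_lit 2, nat_lit 1, nat_lit 2, nat_lit 1] else [nat_lit 3, nat_lit 2, nat_lit 3, nat_lit 2, nat_lit 3, nat_lit 2]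
def Wt_39_41 (j : ℕ) : List ℕ := bif Nat.blt j 40 then [nat_lit 4, nat_lit 3, nat_lit 4, nat_lit 3, nat_lit 4, nat_lit 3] else [nat_lit 8, nat_lit 3, nat_lit 8, nat_lit 3, nat_lit 8, nat_lit 3]
def Wt_37_41 (j : ℕ) : List ℕ := bif Nat.blt j 39 then (Wt_37_39 j) else (Wt_39_41 j)
def Wt_34_41 (j : ℕ) : List ℕ := bif Nat.blt j 37 then (Wt_34_37 j) else (Wt_37_41 j)
def Wt_27_41 (j : ℕ) : List ℕ := bif Nat.blt j 34 then (Wt_27_34 j) else (Wt_34_41 j)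
def Wt_42_44 (j : ℕ) : List ℕ := bif Nat.blt j 43 then [nat_lit 9, nat_lit 8, nat_lit 9, nat_lit 8, nat_lit 9, nat_lit 8] else [nat_lit 2, nat_lit 0, nat_lit 2, nat_lit 0]
def Wt_41_44 (j : ℕ) : List ℕ := bif Nat.blt j 42 then [nat_lit 7, nat_lit 6, nat_lit 7, nat_lit 6, nat_lit 7, nat_lit 6] else (Wt_42_44 j)
def Wt_44_46 (j : ℕ) : List ℕ := bif Nat.blt j 45 then [nat_lit 5, nat_lit 4, nat_lit 5, nat_lit 4, nat_lit 5, nat_lit 4] else [nat_lit 5, nat_lit 3, nat_lit 5, nat_lit 3]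
def Wt_46_48 (j : ℕ) : List ℕ := bif Nat.blt j 47 then [nat_lit 6, nat_lit 3, nat_lit 6, nat_lit 3] else [nat_lit 6, nat_lit 5, nat_lit 6, nat_lit 5, nat_lit 6, nat_lit 5]
def Wt_44_48 (j : ℕ) : List ℕ := bif Nat.blt j 46 then (Wt_44_46 j) else (Wt_46_48 j)
def Wt_41_48 (j : ℕ) : List ℕ := bif Nat.blt j 44 then (Wt_41_44 j) else (Wt_44_48 j)
def Wt_49_51 (j : ℕ) : List ℕ := bif Nat.blt j 50 then [nat_lit 3, nat_lit 6, nat_lit 0, nat_lit 7, nat_lit 0, nat_lit 6, nat_lit 0, nat_lit 4, nat_lit 1, nat_lit 9, nat_lit 3, nat_lit 4, nat_lit 2, nat_lit 6, nat_lit 5, nat_lit 9, nat_lit 8] else [nat_lit 8, nat_lit 6, nat_lit 8, nat_lit 6]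
def Wt_48_51 (j : ℕ) : List ℕ := bif Nat.blt j 49 then [nat_lit 3, nat_lit 1, nat_lit 3, nat_lit 1] else (Wt_49_51 j)
def Wt_51_53 (j : ℕ) : List ℕ := bif Nat.blt j 52 then [nat_lit 6, nat_lit 4, nat_lit 6, nat_lit 4] else [nat_lit 8, nat_lit 2, nat_lit 8, nat_lit 2]
def Wt_53_55 (j : ℕ) : List ℕ := bif Nat.blt j 54 then [nat_lit 9, nat_lit 5, nat_lit 6, nat_lit 2, nat_lit 4, nat_lit 3, nat_lit 9, nat_lit 1, nat_lit 4, nat_lit 0, nat_lit 6, nat_lit 0, nat_lit 7, nat_lit 0, nat_lit 6, nat_lit 3, nat_lit 8] else [nat_lit 8, nat_lit 9, nat_lit 8, nat_lit 9, nat_lit 8, nat_lit 9]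
def Wt_51_55 (j : ℕ) : List ℕ := bif Nat.blt j 53 then (Wt_51_53 j) else (Wt_53_55 j)
def Wt_48_55 (j : ℕ) : List ℕ := bif Nat.blt j 51 then (Wt_48_51 j) else (Wt_51_55 j)
def Wt_41_55 (j : ℕ) : List ℕ := bif Nat.blt j 48 then (Wt_41_48 j) else (Wt_48_55 j)
def Wt_27_55 (j : ℕ) : List ℕ := bif Nat.blt j 41 then (Wt_27_41 j) else (Wt_41_55 j)
def Wt_0_55 (j : ℕ) : List ℕ := bif Nat.blt j 27 then (Wt_0_27 j) else (Wt_27_55 j)
def Wt_56_58 (j : ℕ) : List ℕ := bif Nat.blt j 57 then [nat_lit 7, nat_lit 2, nat_lit 7, nat_lit 2] else [nat_lit 9, nat_lit 2, nat_lit 9, nat_lit 2]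
def Wt_55_58 (j : ℕ) : List ℕ := bif Nat.blt j 56 then [nat_lit 9, nat_lit 5, nat_lit 9, nat_lit 5] else (Wt_56_58 j)
def Wt_58_60 (j : ℕ) : List ℕ := bif Nat.blt j 59 then [nat_lit 9, nat_lit 6, nat_lit 9, nat_lit 6] else [nat_lit 63, nat_lit 6, nat_lit 0, nat_lit 7, nat_lit 0, nat_lit 6, nat_lit 0, nat_lit 4, nat_lit 1, nat_lit 9, nat_lit 3, nat_lit 4, nat_lit 2, nat_lit 6, nat_lit 5, nat_lit 9, nat_lit 8, nat_lit 3]
def Wt_60_62 (j : ℕ) : List ℕ := bif Nat.blt j 61 then [nat_lit 63, nat_lit 3, nat_lit 63, nat_lit 3] else [nat_lit 63, nat_lit 5, nat_lit 63, nat_lit 5]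
def Wt_58_62 (j : ℕ) : List ℕ := bif Nat.blt j 60 then (Wt_58_60 j) else (Wt_60_62 j)
def Wt_55_62 (j : ℕ) : List ℕ := bif Nat.blt j 58 then (Wt_55_58 j) else (Wt_58_62 j)
def Wt_63_65 (j : ℕ) : List ℕ := bif Nat.blt j 64 then [nat_lit 63, nat_lit 6, nat_lit 63, nat_lit 6] else [nat_lit 63, nat_lit 1, nat_lit 63, nat_lit 1]
def Wt_62_65 (j : ℕ) : List ℕ := bif Nat.blt j 63 then [nat_lit 63, nat_lit 4, nat_lit 63, nat_lit 4] else (Wt_63_65 j)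
def Wt_65_67 (j : ℕ) : List ℕ := bif Nat.blt j 66 then [nat_lit 63, nat_lit 2, nat_lit 63, nat_lit 2] else [nat_lit 63, nat_lit 8, nat_lit 63, nat_lit 8]
def Wt_67_69 (j : ℕ) : List ℕ := bif Nat.blt j 68 then [nat_lit 3, nat_lit 3, nat_lit 63] else [nat_lit 63, nat_lit 0, nat_lit 63, nat_lit 0]
def Wt_65_69 (j : ℕ) : List ℕ := bif Nat.blt j 67 then (Wt_65_67 j) else (Wt_67_69 j)
def Wt_62_69 (j : ℕ) : List ℕ := bif Nat.blt j 65 then (Wt_62_65 j) else (Wt_65_69 j)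
def Wt_55_69 (j : ℕ) : List ℕ := bif Nat.blt j 62 then (Wt_55_62 j) else (Wt_62_69 j)
def Wt_70_72 (j : ℕ) : List ℕ := bif Nat.blt j 71 then [nat_lit 7, nat_lit 7, nat_lit 63] else [nat_lit 63, nat_lit 7, nat_lit 63, nat_lit 7]
def Wt_69_72 (j : ℕ) : List ℕ := bif Nat.blt j 70 then [nat_lit 8, nat_lit 8, nat_lit 63] else (Wt_70_72 j)
def Wt_72_74 (j : ℕ) : List ℕ := bif Nat.blt j 73 then [nat_lit 63, nat_lit 9, nat_lit 63, nat_lit 9] else [nat_lit 0, nat_lit 0, nat_lit 63]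
def Wt_74_76 (j : ℕ) : List ℕ := bif Nat.blt j 75 then [nat_lit 4, nat_lit 4, nat_lit 63] else [nat_lit 2, nat_lit 2, nat_lit 63]
def Wt_72_76 (j : ℕ) : List ℕ := bif Nat.blt j 74 then (Wt_72_74 j) else (Wt_74_76 j)
def Wt_69_76 (j : ℕ) : List ℕ := bif Nat.blt j 72 then (Wt_69_72 j) else (Wt_72_76 j)
def Wt_77_79 (j : ℕ) : List ℕ := bif Nat.blt j 78 then [nat_lit 9, nat_lit 9, nat_lit 63] else [nat_lit 6, nat_lit 6, nat_lit 63]
def Wt_76_79 (j : ℕ) : List ℕ := bif Nat.blt j 77 then [nat_lit 5, nat_lit 5, nat_lit 63] else (Wt_77_79 j)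
def Wt_79_81 (j : ℕ) : List ℕ := bif Nat.blt j 80 then [nat_lit 63, nat_lit 63, nat_lit 63] else [nat_lit 1, nat_lit 1, nat_lit 63]
def Wt_81_83 (j : ℕ) : List ℕ := bif Nat.blt j 82 then [nat_lit 63, nat_lit 1, nat_lit 63, nat_lit 1, nat_lit 63] else [nat_lit 63, nat_lit 4, nat_lit 63, nat_lit 4, nat_lit 63]
def Wt_79_83 (j : ℕ) : List ℕ := bif Nat.blt j 81 then (Wt_79_81 j) else (Wt_81_83 j)
def Wt_76_83 (j : ℕ) : List ℕ := bif Nat.blt j 79 then (Wt_76_79 j) else (Wt_79_83 j)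
def Wt_69_83 (j : ℕ) : List ℕ := bif Nat.blt j 76 then (Wt_69_76 j) else (Wt_76_83 j)
def Wt_55_83 (j : ℕ) : List ℕ := bif Nat.blt j 69 then (Wt_55_69 j) else (Wt_69_83 j)
def Wt_84_86 (j : ℕ) : List ℕ := bif Nat.blt j 85 then [nat_lit 63, nat_lit 6, nat_lit 63, nat_lit 6, nat_lit 63] else [nat_lit 63, nat_lit 5, nat_lit 63, nat_lit 5, nat_lit 63]
def Wt_83_86 (j : ℕ) : List ℕ := bif Nat.blt j 84 then [nat_lit 63, nat_lit 9, nat_lit 63, nat_lit 9, nat_lit 63] else (Wt_84_86 j)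
def Wt_86_88 (j : ℕ) : List ℕ := bif Nat.blt j 87 then [nat_lit 63, nat_lit 3, nat_lit 63, nat_lit 3, nat_lit 63] else [nat_lit 63, nat_lit 8, nat_lit 63, nat_lit 8, nat_lit 63]
def Wt_88_90 (j : ℕ) : List ℕ := bif Nat.blt j 89 then [nat_lit 63, nat_lit 0, nat_lit 63, nat_lit 0, nat_lit 63] else [nat_lit 63, nat_lit 2, nat_lit 63, nat_lit 2, nat_lit 63]
def Wt_86_90 (j : ℕ) : List ℕ := bif Nat.blt j 88 then (Wt_86_88 j) else (Wt_88_90 j)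
def Wt_83_90 (j : ℕ) : List ℕ := bif Nat.blt j 86 then (Wt_83_86 j) else (Wt_86_90 j)
def Wt_91_93 (j : ℕ) : List ℕ := bif Nat.blt j 92 then [nat_lit 63, nat_lit 63, nat_lit 63, nat_lit 63] else [nat_lit 63, nat_lit 63, nat_lit 3, nat_lit 63, nat_lit 3]
def Wt_90_93 (j : ℕ) : List ℕ := bif Nat.blt j 91 then [nat_lit 63, nat_lit 63, nat_lit 4, nat_lit 63, nat_lit 4, nat_lit 63] else (Wt_91_93 j)
def Wt_93_95 (j : ℕ) : List ℕ := bif Nat.blt j 94 then [nat_lit 63, nat_lit 7, nat_lit 63, nat_lit 7, nat_lit 63] else [nat_lit 63, nat_lit 63, nat_lit 5, nat_lit 63, nat_lit 5, nat_lit 63]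
def Wt_95_97 (j : ℕ) : List ℕ := bif Nat.blt j 96 then [nat_lit 63, nat_lit 63, nat_lit 2, nat_lit 63, nat_lit 2] else [nat_lit 63, nat_lit 63, nat_lit 5, nat_lit 63, nat_lit 5]
def Wt_93_97 (j : ℕ) : List ℕ := bif Nat.blt j 95 then (Wt_93_95 j) else (Wt_95_97 j)
def Wt_90_97 (j : ℕ) : List ℕ := bif Nat.blt j 93 then (Wt_90_93 j) else (Wt_93_97 j)
def Wt_83_97 (j : ℕ) : List ℕ := bif Nat.blt j 90 then (Wt_83_90 j) else (Wt_90_97 j)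
def Wt_98_100 (j : ℕ) : List ℕ := bif Nat.blt j 99 then [nat_lit 63, nat_lit 63, nat_lit 8, nat_lit 63, nat_lit 8] else [nat_lit 63, nat_lit 63, nat_lit 7, nat_lit 63, nat_lit 7, nat_lit 63]
def Wt_97_100 (j : ℕ) : List ℕ := bif Nat.blt j 98 then [nat_lit 63, nat_lit 63, nat_lit 6, nat_lit 63, nat_lit 6, nat_lit 63] else (Wt_98_100 j)
def Wt_100_102 (j : ℕ) : List ℕ := bif Nat.blt j 101 then [nat_lit 5, nat_lit 63, nat_lit 5, nat_lit 63] else [nat_lit 63, nat_lit 63, nat_lit 0, nat_lit 63, nat_lit 0, nat_lit 63]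
def Wt_102_104 (j : ℕ) : List ℕ := bif Nat.blt j 103 then [nat_lit 63, nat_lit 63, nat_lit 6, nat_lit 63, nat_lit 6] else [nat_lit 63, nat_lit 63, nat_lit 0, nat_lit 63, nat_lit 0]
def Wt_100_104 (j : ℕ) : List ℕ := bif Nat.blt j 102 then (Wt_100_102 j) else (Wt_102_104 j)
def Wt_97_104 (j : ℕ) : List ℕ := bif Nat.blt j 100 then (Wt_97_100 j) else (Wt_100_104 j)
def Wt_105_107 (j : ℕ) : List ℕ := bif Nat.blt j 106 then [nat_lit 63, nat_lit 63, nat_lit 9, nat_lit 63, nat_lit 9, nat_lit 63] else [nat_lit 63, nat_lit 63, nat_lit 9, nat_lit 63, nat_lit 9]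
def Wt_104_107 (j : ℕ) : List ℕ := bif Nat.blt j 105 then [nat_lit 63, nat_lit 63, nat_lit 1, nat_lit 63, nat_lit 1] else (Wt_105_107 j)
def Wt_107_109 (j : ℕ) : List ℕ := bif Nat.blt j 108 then [nat_lit 63, nat_lit 63, nat_lit 7, nat_lit 63, nat_lit 7] else [nat_lit 63, nat_lit 63, nat_lit 63, nat_lit 63, nat_lit 63]
def Wt_109_111 (j : ℕ) : List ℕ := bif Nat.blt j 110 then [nat_lit 63, nat_lit 63, nat_lit 2, nat_lit 63, nat_lit 2, nat_lit 63] else [nat_lit 63, nat_lit 63, nat_lit 8, nat_lit 63, nat_lit 8, nat_lit 63]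
def Wt_107_111 (j : ℕ) : List ℕ := bif Nat.blt j 109 then (Wt_107_109 j) else (Wt_109_111 j)
def Wt_104_111 (j : ℕ) : List ℕ := bif Nat.blt j 107 then (Wt_104_107 j) else (Wt_107_111 j)
def Wt_97_111 (j : ℕ) : List ℕ := bif Nat.blt j 104 then (Wt_97_104 j) else (Wt_104_111 j)
def Wt_83_111 (j : ℕ) : List ℕ := bif Nat.blt j 97 then (Wt_83_97 j) else (Wt_97_111 j)
def Wt_55_111 (j : ℕ) : List ℕ := bif Nat.blt j 83 then (Wt_55_83 j) else (Wt_83_111 j)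
def Wt_0_111 (j : ℕ) : List ℕ := bif Nat.blt j 55 then (Wt_0_55 j) else (Wt_55_111 j)
def Wt (j : ℕ) : List ℕ := (Wt_0_111 j)
def W (j : ℕ) : List ℕ := bif Nat.blt j 111 then Wt j else []
theorem W_ge (j : ℕ) (h : 111 ≤ j) : W j = [] := by
  unfold W
  rw [blt_false_of_le h]
  rfl
def Hl : List ℕ := []
def isH (y : ℕ) : Bool := List.elem y Hl
def Rb : List (List ℕ) := [[nat_lit 0, nat_lit 0],
  [nat_lit 1, nat_lit 0, nat_lit 1, nat_lit 0, nat_lit 1, nat_lit 0],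
  [nat_lit 2, nat_lit 0, nat_lit 2, nat_lit 0],
  [nat_lit 3, nat_lit 0, nat_lit 3, nat_lit 0],
  [nat_lit 4, nat_lit 0, nat_lit 4, nat_lit 0],
  [nat_lit 5, nat_lit 0, nat_lit 5, nat_lit 0],
  [nat_lit 6, nat_lit 0, nat_lit 6, nat_lit 0],
  [nat_lit 7, nat_lit 0, nat_lit 7, nat_lit 0],
  [nat_lit 8, nat_lit 0, nat_lit 8, nat_lit 0],
  [nat_lit 9, nat_lit 0, nat_lit 9, nat_lit 0],
  [nat_lit 1, nat_lit 1],
  [nat_lit 2, nat_lit 1, nat_lit 2, nat_lit 1, nat_lit 2, nat_lit 1],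
  [nat_lit 3, nat_lit 1, nat_lit 3, nat_lit 1],
  [nat_lit 4, nat_lit 1, nat_lit 4, nat_lit 1],
  [nat_lit 5, nat_lit 1, nat_lit 5, nat_lit 1],
  [nat_lit 6, nat_lit 1, nat_lit 6, nat_lit 1],
  [nat_lit 7, nat_lit 1, nat_lit 7, nat_lit 1],
  [nat_lit 8, nat_lit 1, nat_lit 8, nat_lit 1],
  [nat_lit 9, nat_lit 1, nat_lit 9, nat_lit 1],
  [nat_lit 2, nat_lit 2],
  [nat_lit 3, nat_lit 2, nat_lit 3, nat_lit 2, nat_lit 3, nat_lit 2],
  [nat_lit 4, nat_lit 2, nat_lit 4, nat_lit 2],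
  [nat_lit 5, nat_lit 2, nat_lit 5, nat_lit 2],
  [nat_lit 6, nat_lit 2, nat_lit 6, nat_lit 2],
  [nat_lit 7, nat_lit 2, nat_lit 7, nat_lit 2],
  [nat_lit 8, nat_lit 2, nat_lit 8, nat_lit 2],
  [nat_lit 9, nat_lit 2, nat_lit 9, nat_lit 2],
  [nat_lit 3, nat_lit 3],
  [nat_lit 4, nat_lit 3, nat_lit 4, nat_lit 3, nat_lit 4, nat_lit 3],
  [nat_lit 5, nat_lit 3, nat_lit 5, nat_lit 3],
  [nat_lit 6, nat_lit 3, nat_lit 6, nat_lit 3],
  [nat_lit 7, nat_lit 3, nat_lit 7, nat_lit 3],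
  [nat_lit 8, nat_lit 3, nat_lit 8, nat_lit 3, nat_lit 8, nat_lit 3],
  [nat_lit 9, nat_lit 3, nat_lit 9, nat_lit 3],
  [nat_lit 4, nat_lit 4],
  [nat_lit 5, nat_lit 4, nat_lit 5, nat_lit 4, nat_lit 5, nat_lit 4],
  [nat_lit 6, nat_lit 4, nat_lit 6, nat_lit 4],
  [nat_lit 7, nat_lit 4, nat_lit 7, nat_lit 4],
  [nat_lit 8, nat_lit 4, nat_lit 8, nat_lit 4],
  [nat_lit 9, nat_lit 4, nat_lit 9, nat_lit 4],
  [nat_lit 5, nat_lit 5],
  [nat_lit 6, nat_lit 5, nat_lit 6, nat_lit 5, nat_lit 6, nat_lit 5],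
  [nat_lit 7, nat_lit 5, nat_lit 7, nat_lit 5],
  [nat_lit 8, nat_lit 5, nat_lit 8, nat_lit 5],
  [nat_lit 9, nat_lit 5, nat_lit 9, nat_lit 5],
  [nat_lit 6, nat_lit 6],
  [nat_lit 7, nat_lit 6, nat_lit 7, nat_lit 6, nat_lit 7, nat_lit 6],
  [nat_lit 8, nat_lit 6, nat_lit 8, nat_lit 6],
  [nat_lit 9, nat_lit 6, nat_lit 9, nat_lit 6],
  [nat_lit 7, nat_lit 7],
  [nat_lit 8, nat_lit 7, nat_lit 8, nat_lit 7],
  [nat_lit 9, nat_lit 7, nat_lit 9, nat_lit 7],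
  [nat_lit 8, nat_lit 8],
  [nat_lit 9, nat_lit 8, nat_lit 9, nat_lit 8, nat_lit 9, nat_lit 8],
  [nat_lit 9, nat_lit 9],
  [nat_lit 9, nat_lit 8, nat_lit 3, nat_lit 5, nat_lit 4, nat_lit 3, nat_lit 1, nat_lit 2, nat_lit 3, nat_lit 9, nat_lit 8, nat_lit 3, nat_lit 5, nat_lit 4, nat_lit 3, nat_lit 1, nat_lit 2, nat_lit 3, nat_lit 9, nat_lit 8, nat_lit 3, nat_lit 5, nat_lit 4, nat_lit 3, nat_lit 1, nat_lit 2, nat_lit 3, nat_lit 9, nat_lit 8, nat_lit 3, nat_lit 5, nat_lit 4, nat_lit 3, nat_lit 1, nat_lit 2, nat_lit 3, nat_lit 9, nat_lit 8, nat_lit 3, nat_lit 5, nat_lit 4, nat_lit 3, nat_lit 1, nat_lit 2, nat_lit 3, nat_lit 9, nat_lit 8, nat_lit 3, nat_lit 5, nat_lit 4, nat_lit 3, nat_lit 1, nat_lit 2, nat_lit 3, nat_lit 9, nat_lit 8, nat_lit 3, nat_lit 5, nat_lit 4, nat_lit 3, nat_lit 1, nat_lit 2, nat_lit 3, nat_lit 9, nat_lit 8, nat_lit 3, nat_lit 5, nat_lit 4,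 nat_lit 3, nat_lit 1, nat_lit 2, nat_lit 3, nat_lit 9, nat_lit 8, nat_lit 3, nat_lit 5, nat_lit 4, nat_lit 3, nat_lit 1, nat_lit 2, nat_lit 3, nat_lit 9, nat_lit 8, nat_lit 3, nat_lit 5, nat_lit 4, nat_lit 3, nat_lit 1, nat_lit 2, nat_lit 3],
  [nat_lit 8, nat_lit 5, nat_lit 4, nat_lit 3, nat_lit 2, nat_lit 1, nat_lit 0, nat_lit 8, nat_lit 5, nat_lit 4, nat_lit 3, nat_lit 2, nat_lit 1, nat_lit 0, nat_lit 8, nat_lit 5, nat_lit 4, nat_lit 3, nat_lit 2, nat_lit 1, nat_lit 0, nat_lit 8, nat_lit 5, nat_lit 4, nat_lit 3, nat_lit 2, nat_lit 1, nat_lit 0, nat_lit 8, nat_lit 5, nat_lit 4, nat_lit 3, nat_lit 2, nat_lit 1, nat_lit 0, nat_lit 8, nat_lit 5, nat_lit 4, nat_lit 3, nat_lit 2, nat_lit 1, nat_lit 0, nat_lit 8, nat_lit 5, nat_lit 4, nat_lit 3, nat_lit 2, nat_lit 1, nat_lit 0, nat_lit 8, nat_lit 5, nat_lit 4, nat_lit 3, nat_lit 2, nat_lit 1, nat_lit 0, nat_lit 8,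 nat_lit 5, nat_lit 4, nat_lit 3, nat_lit 2, nat_lit 1, nat_lit 0],
  [nat_lit 5, nat_lit 6, nat_lit 2, nat_lit 4, nat_lit 3, nat_lit 9, nat_lit 1, nat_lit 4, nat_lit 0, nat_lit 6, nat_lit 0, nat_lit 7, nat_lit 0, nat_lit 6, nat_lit 3, nat_lit 8, nat_lit 9],
  []]
def spT_0_2 (j : ℕ) : ℕ := bif Nat.blt j 1 then nat_lit 0x5a00000044000000500000003600006073000020600000203400002030000020580000006a0000007200002032000020480000205e0000607300002018000020520000203c0000203a00002046000020040000206a0000205c000020400000203800002028000020160000005e000000560000004c0000004a00000042000000220000200200000066000000640000006000000058000000540000004e000000480000003e0000003c0000003a0000003400000032000000300000002e0000002c0000002a00000024000000200000001e0000001c0000001a0000001800000012000000100000000e0000000c0000000a000000080000000600000004 else nat_lit 0x680000002600000074000000620000006c0000006c00000014000000000000005a000000000000005000000062000000680000005a0000005000000026000000500000006200000036000000740000004400000026000000000000006800000036000000500000005a0000006c000000440000001400000014000000740000005a0000006c000000500000002600000044000000000000006c0000006200000062000000680000000000000036000000680000002600000014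
def spT (j : ℕ) : ℕ := (spT_0_2 j)
def sp (j : ℕ) : ℕ := Nat.land (Nat.shiftRight (spT (Nat.shiftRight j 6)) (Nat.mul (Nat.land j 63) 32)) 4294967295
theorem Eo_lt (r : ℕ) : Eo r < 18014398509481984 := land54_lt _
def cT (j : ℕ) : ℕ := nat_lit 0x0
noncomputable def cChunk (h : ℕ) : ℕ := Nat.rec (motive := fun _ => ℕ) (cT 0) (fun n _ => cT (Nat.succ n)) h
noncomputable def cF (i : ℕ) : ℕ := Nat.land (Nat.shiftRight (cChunk (Nat.shiftRight i 7)) (Nat.mul (Nat.land i 127) 24)) 16777215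
theorem cF_lt (i : ℕ) : cF i < 16777216 := land24_lt _
theorem cF_zero : cF 0 = 0 := by decide +kernel
def nDef : ℕ := 790
def nEv : ℕ := 2684
def nW : ℕ := 111
def N : ℕ := 1
def ys : List ℕ := [nat_lit 0, nat_lit 1, nat_lit 2, nat_lit 3, nat_lit 4, nat_lit 5, nat_lit 6, nat_lit 7, nat_lit 8, nat_lit 9]
def xw : List ℕ := [nat_lit 5, nat_lit 6, nat_lit 2, nat_lit 4, nat_lit 3, nat_lit 9, nat_lit 1, nat_lit 4, nat_lit 0, nat_lit 6, nat_lit 0, nat_lit 7, nat_lit 0, nat_lit 6, nat_lit 3, nat_lit 8, nat_lit 9]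
end Cfsg.Agent.Lib.ToddCox.Fi23X
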